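import Mathlib
import Groth.Prelude.Def_ArtFun4

set_option autoImplicit false
set_option linter.style.haveILetI false
set_option linter.unusedSectionVars false

/-! The universal family `xy = T` over the affine line, ring level. -/

open AlgebraicGeometry CategoryTheory CategoryTheory.Limits

namespace Groth.Agent.H61.Node

universe u

section Pushout

variable {R K E B₀ : Type u} [CommRing R] [CommRing K] [CommRing E] [CommRing B₀]
  (φ : R →+* E) (ρ : R →+* K) (π : E →+* B₀) (ι : K →+* B₀)

/-- a quotient square is a pushout of commutative rings. -/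
theorem isPushout_of_ker (hρ : Function.Surjective ρ) (hπ : Function.Surjective π)
    (hcomp : ∀ a, π (φ a) = ι (ρ a))
    (hker : RingHom.ker π = (RingHom.ker ρ).map φ) :
    IsPushout (CommRingCat.ofHom φ) (CommRingCat.ofHom ρ)
      (CommRingCat.ofHom π) (CommRingCat.ofHom ι) := by
  have w : CommRingCat.ofHom φ ≫ CommRingCat.ofHom π =
      CommRingCat.ofHom ρ ≫ CommRingCat.ofHom ι := by
    ext a
    exact hcomp a
  have hle : ∀ s : PushoutCocone (CommRingCat.ofHom φ) (CommRingCat.ofHom ρ),
      RingHom.ker π ≤ RingHom.ker s.inl.hom := by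
    intro s
    rw [hker, Ideal.map_le_iff_le_comap]
    intro a ha
    rw [Ideal.mem_comap, RingHom.mem_ker]
    have h1 := ConcreteCategory.congr_hom s.condition a
    have h2 : s.inl.hom (φ a) = s.inr.hom (ρ a) := h1
    rw [h2, (RingHom.mem_ker).mp ha, map_zero]
  let desc : ∀ s : PushoutCocone (CommRingCat.ofHom φ) (CommRingCat.ofHom ρ),
      CommRingCat.of B₀ ⟶ s.pt := fun s =>
    CommRingCat.ofHom (RingHom.liftOfSurjective π hπ ⟨s.inl.hom, hle s⟩)
  have hdesc : ∀ s e, (desc s).hom (π e) = s.inl.hom e := fun s e =>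
    RingHom.liftOfSurjective_comp_apply π hπ ⟨s.inl.hom, hle s⟩ e
  refine IsPushout.of_isColimit (PushoutCocone.IsColimit.mk w desc ?_ ?_ ?_)
  · intro s
    ext e
    exact hdesc s e
  · intro s
    ext c
    obtain ⟨a, rfl⟩ := hρ c
    change (desc s).hom (ι (ρ a)) = s.inr.hom (ρ a)
    rw [← hcomp, hdesc]
    exact ConcreteCategory.congr_hom s.condition a
  · intro s m hm _
    ext b
    obtain ⟨e, rfl⟩ := hπ b
    rw [hdesc]
    exact ConcreteCategory.congr_hom hm e

end Pushout

variable (k : Type u) [Field k]

/-- the coordinate ring of the plane -/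
abbrev S : Type u := MvPolynomial (Fin 2) k

/-- the coordinate ring of the node -/
abbrev R₀ : Type u :=
  MvPolynomial (Fin 2) k ⧸ Ideal.span {(MvPolynomial.X 0 * MvPolynomial.X 1 : MvPolynomial (Fin 2) k)}

/-- `T ↦ xy`. -/
noncomputable def c : Polynomial k →+* S k :=
  (Polynomial.aeval (MvPolynomial.X 0 * MvPolynomial.X 1 : S k)).toRingHom

/-- `T ↦ 0`. -/
noncomputable def ev0 : Polynomial k →+* k := Polynomial.evalRingHom 0

/-- the quotient map to the node -/
noncomputable def mk0 : S k →+* R₀ k := Ideal.Quotient.mk _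

lemma c_X : c k Polynomial.X = MvPolynomial.X 0 * MvPolynomial.X 1 := by
  simp [c]

lemma c_C (a : k) : c k (Polynomial.C a) = MvPolynomial.C a := by
  simp [c]

/-- a retraction of `c`: `x ↦ T`, `y ↦ 1`. -/
noncomputable def d : S k →+* Polynomial k :=
  (MvPolynomial.aeval (R := k) (![Polynomial.X, 1] : Fin 2 → Polynomial k)).toRingHom

lemma d_c (p : Polynomial k) : d k (c k p) = p := by
  have : (d k).comp (c k) = RingHom.id _ := by
    apply Polynomial.ringHom_ext
    · intro a
      simp [c, d]
    · simp [c, d]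
  exact congrArg (fun f : Polynomial k →+* Polynomial k => f p) this

lemma c_injective : Function.Injective (c k) :=
  Function.LeftInverse.injective (d_c k)

theorem c_flat : (c k).Flat := by
  letI : Algebra (Polynomial k) (S k) := (c k).toAlgebra
  change Module.Flat (Polynomial k) (S k)
  rw [Module.Flat.flat_iff_torsion_eq_bot_of_isBezout]
  rw [Submodule.eq_bot_iff]
  intro z hz
  rw [Submodule.mem_torsion_iff] at hz
  obtain ⟨⟨r, hr⟩, h⟩ := hz
  have h' : c k r * z = 0 := h
  rcases mul_eq_zero.mp h' with h1 | h1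
  · exfalso
    have : r = 0 := c_injective k (by rw [h1, map_zero])
    exact (nonZeroDivisors.ne_zero hr) this
  · exact h1

theorem isPushout_node :
    IsPushout (CommRingCat.ofHom (c k)) (CommRingCat.ofHom (ev0 k))
      (CommRingCat.ofHom (mk0 k)) (CommRingCat.ofHom (algebraMap k (R₀ k))) := by
  apply isPushout_of_ker
  · intro a
    exact ⟨Polynomial.C a, by simp [ev0]⟩
  · exact Ideal.Quotient.mk_surjective
  · intro p
    have : (mk0 k).comp (c k) = (algebraMap k (R₀ k)).comp (ev0 k) := by
      apply Polynomial.ringHom_ext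
      · intro a
        simp [c, ev0, mk0]
        rfl
      · simp only [RingHom.comp_apply, c_X, ev0, Polynomial.coe_evalRingHom, Polynomial.eval_X,
          map_zero]
        exact Ideal.Quotient.eq_zero_iff_mem.mpr (Ideal.subset_span rfl)
    exact congrArg (fun f : Polynomial k →+* R₀ k => f p) this
  · rw [mk0, Ideal.mk_ker, ev0, Polynomial.ker_evalRingHom, Ideal.map_span, Set.image_singleton]
    congr 2
    simp [c]

end Groth.Agent.H61.Node
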