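import Mathlib
import Groth.Prelude.Def_ArtFun4
import Groth.Agent.H61.Node.Univ
import Groth.Agent.H61.DefAlg.Dict

set_option autoImplicit false
set_option linter.style.haveILetI false
set_option linter.unusedSectionVars false

/-! The family `xy = t` over an Artinian base. -/

open AlgebraicGeometry CategoryTheory CategoryTheory.Limits

namespace Groth.Agent.H61.Node

universe u

open ArtFun ArtFun.Art

variable (k : Type u) [Field k]

/-- the node as a scheme -/
noncomputable abbrev XN : Scheme.{u} := Spec (CommRingCat.of (R₀ k))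

/-- its structure morphism -/
noncomputable abbrev xN : XN k ⟶ specPt k := Spec.map (CommRingCat.ofHom (algebraMap k (R₀ k)))

section ring

variable {A : Type u} [CommRing A] [Algebra k A] (t : A)

/-- `T ↦ t`. -/
noncomputable def aT : CommRingCat.of (Polynomial k) ⟶ CommRingCat.of A :=
  CommRingCat.ofHom (Polynomial.aeval t).toRingHom

/-- the coordinate ring `A[x,y]/(xy - t)` as a pushout. -/
noncomputable def E : CommRingCat.{u} := pushout (CommRingCat.ofHom (c k)) (aT k t)

/-- `k[x,y] → E`. -/
noncomputable def inl : CommRingCat.of (S k) ⟶ E k t := pushout.inl _ _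

/-- `A → E`. -/
noncomputable def inr : CommRingCat.of A ⟶ E k t := pushout.inr _ _

lemma cond : CommRingCat.ofHom (c k) ≫ inl k t = aT k t ≫ inr k t := pushout.condition

lemma isPushout_E : IsPushout (CommRingCat.ofHom (c k)) (aT k t) (inl k t) (inr k t) :=
  IsPushout.of_hasPushout _ _

lemma cond_of {W : CommRingCat.{u}} (a : CommRingCat.of (S k) ⟶ W) (b : CommRingCat.of A ⟶ W)
    (h1 : ∀ r : k, a.hom (MvPolynomial.C r) = b.hom (algebraMap k A r))
    (h2 : a.hom (MvPolynomial.X 0 * MvPolynomial.X 1) = b.hom t) :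
    CommRingCat.ofHom (c k) ≫ a = aT k t ≫ b := by
  apply CommRingCat.hom_ext
  change a.hom.comp (c k) = b.hom.comp (Polynomial.aeval t).toRingHom
  apply Polynomial.ringHom_ext
  · intro r
    simp only [RingHom.comp_apply, c_C, h1]
    simp
  · simp only [RingHom.comp_apply, c_X, h2]
    simp

lemma inl_C (r : k) : (inl k t).hom (MvPolynomial.C r) = (inr k t).hom (algebraMap k A r) := by
  have h := ConcreteCategory.congr_hom (cond k t) (Polynomial.C r)
  have h' : (inl k t).hom (c k (Polynomial.C r)) = (inr k t).hom (Polynomial.aeval t (Polynomial.C r)) := h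
  rw [c_C] at h'
  rw [h']
  simp

lemma inl_xy : (inl k t).hom (MvPolynomial.X 0 * MvPolynomial.X 1) = (inr k t).hom t := by
  have h := ConcreteCategory.congr_hom (cond k t) (Polynomial.X)
  have h' : (inl k t).hom (c k (Polynomial.X)) = (inr k t).hom (Polynomial.aeval t (Polynomial.X)) := h
  rw [c_X] at h'
  rw [h']
  simp

/-- the universal property. -/
noncomputable def desc {W : CommRingCat.{u}} (a : CommRingCat.of (S k) ⟶ W) (b : CommRingCat.of A ⟶ W)
    (h : CommRingCat.ofHom (c k) ≫ a = aT k t ≫ b) : E k t ⟶ W := pushout.desc a b h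

@[reassoc (attr := simp)]
lemma inl_desc {W : CommRingCat.{u}} (a : CommRingCat.of (S k) ⟶ W) (b : CommRingCat.of A ⟶ W)
    (h : CommRingCat.ofHom (c k) ≫ a = aT k t ≫ b) : inl k t ≫ desc k t a b h = a := pushout.inl_desc _ _ _

@[reassoc (attr := simp)]
lemma inr_desc {W : CommRingCat.{u}} (a : CommRingCat.of (S k) ⟶ W) (b : CommRingCat.of A ⟶ W)
    (h : CommRingCat.ofHom (c k) ≫ a = aT k t ≫ b) : inr k t ≫ desc k t a b h = b := pushout.inr_desc _ _ _

lemma hom_ext {W : CommRingCat.{u}} {f g : E k t ⟶ W} (h1 : inl k t ≫ f = inl k t ≫ g)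
    (h2 : inr k t ≫ f = inr k t ≫ g) : f = g := pushout.hom_ext h1 h2

/-- maps out of `k[x,y]` agree when they agree on constants and the variables. -/
lemma S_hom_ext {W : CommRingCat.{u}} {f g : CommRingCat.of (S k) ⟶ W}
    (h0 : ∀ r : k, f.hom (MvPolynomial.C r) = g.hom (MvPolynomial.C r))
    (hx : f.hom (MvPolynomial.X 0) = g.hom (MvPolynomial.X 0))
    (hy : f.hom (MvPolynomial.X 1) = g.hom (MvPolynomial.X 1)) : f = g := by
  ext1
  apply MvPolynomial.ringHom_ext
  · exact h0
  · intro i
    fin_cases i
    · exact hx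
    · exact hy

lemma flat_inr : Flat (Spec.map (inr k t)) := by
  have sq := isPullback_SpecMap_of_isPushout _ _ _ _ (isPushout_E k t)
  have hc : Flat (Spec.map (CommRingCat.ofHom (c k))) := Flat.SpecMap_iff.mpr (c_flat k)
  exact MorphismProperty.of_isPullback (P := @Flat) sq hc

end ring

variable {k}

variable (A : Art k k) (t : A) (ht : t ∈ IsLocalRing.maximalIdeal A)

include ht in
lemma aT_res : aT k t ≫ CommRingCat.ofHom A.res.toRingHom = CommRingCat.ofHom (ev0 k) := by
  apply CommRingCat.hom_ext
  change (A.res.toRingHom).comp (Polynomial.aeval t).toRingHom = ev0 k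
  apply Polynomial.ringHom_ext
  · intro r
    simp [ev0]
  · have := (mem_maximalIdeal_iff A t).mp ht
    simp [ev0, this]

/-- the map to the closed fibre. -/
noncomputable def ι : E k t ⟶ CommRingCat.of (R₀ k) :=
  desc k t (CommRingCat.ofHom (mk0 k))
    (CommRingCat.ofHom A.res.toRingHom ≫ CommRingCat.ofHom (algebraMap k (R₀ k)))
    (by
      apply cond_of
      · intro r
        change mk0 k (MvPolynomial.C r) = algebraMap k (R₀ k) (A.res (algebraMap k A r))
        rw [A.res.commutes]
        rfl
      · change mk0 k (MvPolynomial.X 0 * MvPolynomial.X 1) = algebraMap k (R₀ k) (A.res t)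
        rw [(mem_maximalIdeal_iff A t).mp ht, map_zero]
        exact Ideal.Quotient.eq_zero_iff_mem.mpr (Ideal.subset_span rfl))

lemma inl_ι : inl k t ≫ ι A t ht = CommRingCat.ofHom (mk0 k) := inl_desc _ _ _ _ _

lemma inr_ι : inr k t ≫ ι A t ht =
    CommRingCat.ofHom A.res.toRingHom ≫ CommRingCat.ofHom (algebraMap k (R₀ k)) := inr_desc _ _ _ _ _

/-- the deformation `xy = t`. -/
noncomputable def fam : DefSch (XN k) (xN k) A where
  total := Spec (E k t)
  f := Spec.map (inr k t)
  flat := flat_inr k t
  i := Spec.map (ι A t ht)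
  isPullback := by
    refine isPullback_SpecMap_of_isPushout _ _ _ _ ?_
    refine IsPushout.of_top ?_ (inr_ι A t ht) (isPushout_E k t)
    rw [aT_res A t ht, inl_ι]
    exact isPushout_node k

end Groth.Agent.H61.Node
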