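import Mathlib
import Groth.Prelude.Def_ArtFun4
import Groth.Agent.H61.Node.Family

set_option autoImplicit false
set_option linter.style.haveILetI false
set_option linter.unusedSectionVars false

/-! Operations on the family `xy = t`: base change, twisting by a unit, the obstruction. -/

open AlgebraicGeometry CategoryTheory CategoryTheory.Limits

namespace Groth.Agent.H61.Node

universe u

open ArtFun ArtFun.Art Groth.Agent.H61.DefAlg

variable {k : Type u} [Field k]

section isoOfHom

variable {A : Art k k} {ξ ξ' : DefSch (XN k) (xN k) A}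

/-- a morphism of deformations of the (affine) node is an isomorphism. -/
theorem nonempty_iso_of_hom (ψ : ξ.total ⟶ ξ'.total) (hf : ψ ≫ ξ'.f = ξ.f) (hi : ξ.i ≫ ψ = ξ'.i) :
    Nonempty (ξ.Iso ξ') := by
  haveI : IsIso ψ := DefSch.isIso_of_hom ψ hf hi
  exact ⟨⟨asIso ψ, hf, hi⟩⟩

end isoOfHom

section baseChange

variable {A A₁ : Art k k} (g : A ⟶ A₁) (t : A) (ht : t ∈ IsLocalRing.maximalIdeal A)

include ht in
lemma map_mem : g t ∈ IsLocalRing.maximalIdeal A₁ := by
  rw [mem_maximalIdeal_iff, res_app]
  exact (mem_maximalIdeal_iff A t).mp ht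

lemma aT_comp : aT k t ≫ CommRingCat.ofHom g.toAlgHom.toRingHom = aT k (g t) := by
  apply CommRingCat.hom_ext
  change (g.toAlgHom.toRingHom).comp (Polynomial.aeval t).toRingHom = (Polynomial.aeval (g t)).toRingHom
  apply Polynomial.ringHom_ext
  · intro r
    simp
  · simp

theorem bc_iso : Nonempty (((fam A t ht).baseChange g).Iso (fam A₁ (g t) (map_mem g t ht))) := by
  have sq := isPullback_SpecMap_of_isPushout _ _ _ _ (isPushout_E k (g t))
  have hc : (pullback.fst (Spec.map (inr k t)) (specMap g) ≫ Spec.map (inl k t)) ≫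
      Spec.map (CommRingCat.ofHom (c k)) =
      pullback.snd (Spec.map (inr k t)) (specMap g) ≫ Spec.map (aT k (g t)) := by
    rw [Category.assoc, ← Spec.map_comp, cond k t, Spec.map_comp, ← aT_comp g t, Spec.map_comp,
      ← Category.assoc, ← Category.assoc]
    congr 1
    exact pullback.condition
  let F : pullback (Spec.map (inr k t)) (specMap g) ⟶ Spec (E k (g t)) :=
    sq.lift (pullback.fst (Spec.map (inr k t)) (specMap g) ≫ Spec.map (inl k t))
      (pullback.snd (Spec.map (inr k t)) (specMap g)) hc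
  have hF1 : F ≫ Spec.map (inl k (g t)) =
      pullback.fst (Spec.map (inr k t)) (specMap g) ≫ Spec.map (inl k t) := sq.lift_fst _ _ hc
  have hF2 : F ≫ Spec.map (inr k (g t)) = pullback.snd (Spec.map (inr k t)) (specMap g) :=
    sq.lift_snd _ _ hc
  refine nonempty_iso_of_hom (ξ := (fam A t ht).baseChange g) (ξ' := fam A₁ (g t) (map_mem g t ht))
    F hF2 ?_
  let j : XN k ⟶ pullback (Spec.map (inr k t)) (specMap g) := ((fam A t ht).baseChange g).i
  have h1 : j ≫ pullback.fst (Spec.map (inr k t)) (specMap g) =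
      Spec.map (ι A t ht) := DefSch.baseChange_i_fst (fam A t ht) g
  have h2 : j ≫ pullback.snd (Spec.map (inr k t)) (specMap g) =
      xN k ≫ specRes A₁ := DefSch.baseChange_i_f (fam A t ht) g
  change j ≫ F = Spec.map (ι A₁ (g t) (map_mem g t ht))
  apply sq.hom_ext
  · rw [Category.assoc, hF1, ← Category.assoc, h1, ← Spec.map_comp, ← Spec.map_comp, inl_ι, inl_ι]
  · rw [Category.assoc, hF2, h2]
    have h3 : Spec.map (ι A₁ (g t) (map_mem g t ht)) ≫ Spec.map (inr k (g t)) =
        xN k ≫ specRes A₁ := by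
      rw [← Spec.map_comp, inr_ι, Spec.map_comp]
    exact h3.symm

end baseChange

section twist

variable (A : Art k k) (t w : A) (ht : t ∈ IsLocalRing.maximalIdeal A) (hw : A.res w = 1)

/-- `x ↦ w x`, `y ↦ y`, as a ring map. -/
noncomputable def twR : S k →+* E k t :=
  MvPolynomial.eval₂Hom ((inl k t).hom.comp MvPolynomial.C)
    (![(inr k t).hom w * (inl k t).hom (MvPolynomial.X 0), (inl k t).hom (MvPolynomial.X 1)] :
      Fin 2 → E k t)

/-- `x ↦ w x`, `y ↦ y`. -/
noncomputable def twS : CommRingCat.of (S k) ⟶ E k t := CommRingCat.ofHom (twR A t w)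

lemma twS_C (r : k) : (twS A t w).hom (MvPolynomial.C r) = (inl k t).hom (MvPolynomial.C r) := by
  change twR A t w (MvPolynomial.C r) = _
  simp [twR]

lemma twS_X0 : (twS A t w).hom (MvPolynomial.X 0) =
    (inr k t).hom w * (inl k t).hom (MvPolynomial.X 0) := by
  change twR A t w (MvPolynomial.X 0) = _
  simp [twR]

lemma twS_X1 : (twS A t w).hom (MvPolynomial.X 1) = (inl k t).hom (MvPolynomial.X 1) := by
  change twR A t w (MvPolynomial.X 1) = _
  simp [twR]

/-- the twist on coordinate rings. -/
noncomputable def tw : E k (w * t) ⟶ E k t :=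
  desc k (w * t) (twS A t w) (inr k t) (by
    apply cond_of
    · intro r
      rw [twS_C, inl_C]
    · rw [map_mul, twS_X0, twS_X1, mul_assoc, ← map_mul, inl_xy, ← map_mul])

include ht in
lemma mul_mem : w * t ∈ IsLocalRing.maximalIdeal A := Ideal.mul_mem_left _ _ ht

include hw in
theorem twist_iso : Nonempty ((fam A t ht).Iso (fam A (w * t) (mul_mem A t w ht))) := by
  refine nonempty_iso_of_hom (Spec.map (tw A t w)) ?_ ?_
  · change Spec.map (tw A t w) ≫ Spec.map (inr k (w * t)) = Spec.map (inr k t)
    rw [← Spec.map_comp, tw, inr_desc]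
  · change Spec.map (ι A t ht) ≫ Spec.map (tw A t w) = Spec.map (ι A (w * t) (mul_mem A t w ht))
    rw [← Spec.map_comp]
    congr 1
    apply hom_ext
    · rw [tw, inl_desc_assoc, inl_ι]
      apply S_hom_ext
      · intro r
        change (ι A t ht).hom ((twS A t w).hom (MvPolynomial.C r)) = _
        rw [twS_C]
        exact ConcreteCategory.congr_hom (inl_ι A t ht) (MvPolynomial.C r)
      · change (ι A t ht).hom ((twS A t w).hom (MvPolynomial.X 0)) = _
        rw [twS_X0, map_mul]
        have h1 : (ι A t ht).hom ((inr k t).hom w) = algebraMap k (R₀ k) (A.res w) :=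
          ConcreteCategory.congr_hom (inr_ι A t ht) w
        have h2 : (ι A t ht).hom ((inl k t).hom (MvPolynomial.X 0)) = mk0 k (MvPolynomial.X 0) :=
          ConcreteCategory.congr_hom (inl_ι A t ht) (MvPolynomial.X 0)
        rw [h1, h2, hw, map_one, one_mul]
        rfl
      · change (ι A t ht).hom ((twS A t w).hom (MvPolynomial.X 1)) = _
        rw [twS_X1]
        exact ConcreteCategory.congr_hom (inl_ι A t ht) (MvPolynomial.X 1)
    · rw [tw, inr_desc_assoc, inr_ι, inr_ι]

end twist

end Groth.Agent.H61.Node
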