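import Mathlib
import Groth.Prelude.Def_ArtFun4
import Groth.Agent.H61.Node.Ops

set_option autoImplicit false
set_option linter.style.haveILetI false
set_option linter.unusedSectionVars false

/-! The obstruction: `xy = t` and `xy = t'` isomorphic implies `t' ∈ (t) + m²`. -/

open AlgebraicGeometry CategoryTheory CategoryTheory.Limits

namespace Groth.Agent.H61.Node

universe u

open ArtFun ArtFun.Art Groth.Agent.H61.DefAlg

variable {k : Type u} [Field k]

variable (A : Art k k) (t t' : A) (ht : t ∈ IsLocalRing.maximalIdeal A)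
  (ht' : t' ∈ IsLocalRing.maximalIdeal A)

/-- `k[x,y] → A/(t)` through the origin, as a ring map. -/
noncomputable def σR : S k →+* A ⧸ Ideal.span {t} :=
  (algebraMap k (A ⧸ Ideal.span {t})).comp MvPolynomial.constantCoeff

lemma σR_C (r : k) : σR A t (MvPolynomial.C r) = Ideal.Quotient.mk (Ideal.span {t}) (algebraMap k A r) := by
  rw [σR, RingHom.comp_apply, MvPolynomial.constantCoeff_C]
  rfl

lemma σR_X (i : Fin 2) : σR A t (MvPolynomial.X i) = 0 := by
  rw [σR, RingHom.comp_apply, MvPolynomial.constantCoeff_X, map_zero]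

/-- `k[x,y] → A/(t)` through the origin. -/
noncomputable def σS : CommRingCat.of (S k) ⟶ CommRingCat.of (A ⧸ Ideal.span {t}) :=
  CommRingCat.ofHom (σR A t)

/-- the quotient map. -/
noncomputable def mkQ : CommRingCat.of A ⟶ CommRingCat.of (A ⧸ Ideal.span {t}) :=
  CommRingCat.ofHom (Ideal.Quotient.mk (Ideal.span {t}))

lemma σ_cond : CommRingCat.ofHom (c k) ≫ σS A t = aT k t ≫ mkQ A t := by
  apply cond_of
  · intro r
    exact σR_C A t r
  · have h1 : (σS A t).hom (MvPolynomial.X 0 * MvPolynomial.X 1) =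
        σR A t (MvPolynomial.X 0) * σR A t (MvPolynomial.X 1) := map_mul (σR A t) _ _
    have h2 : Ideal.Quotient.mk (Ideal.span {t}) t = 0 :=
      Ideal.Quotient.eq_zero_iff_mem.mpr (Ideal.subset_span (Set.mem_singleton t))
    have h3 : (mkQ A t).hom t = Ideal.Quotient.mk (Ideal.span {t}) t := rfl
    rw [h1, σR_X, zero_mul, h3, h2]

/-- the section of `xy = t` over `A/(t)` through the node. -/
noncomputable def σ : E k t ⟶ CommRingCat.of (A ⧸ Ideal.span {t}) :=
  desc k t (σS A t) (mkQ A t) (σ_cond A t)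

/-- the residue map of `A/(t)`. -/
noncomputable def ρ : (A ⧸ Ideal.span {t}) →+* k :=
  Ideal.Quotient.lift (Ideal.span {t}) A.res.toRingHom (by
    intro a ha
    have : a ∈ IsLocalRing.maximalIdeal A :=
      (Ideal.span_le.mpr (Set.singleton_subset_iff.mpr ht)) ha
    exact (mem_maximalIdeal_iff A a).mp this)

variable (k) in
/-- the origin of the node. -/
noncomputable def node0 : R₀ k →+* k :=
  Ideal.Quotient.lift _ (MvPolynomial.constantCoeff (R := k) (σ := Fin 2)) (by
    intro a ha
    have hle : Ideal.span {(MvPolynomial.X 0 * MvPolynomial.X 1 : MvPolynomial (Fin 2) k)} ≤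
        RingHom.ker (MvPolynomial.constantCoeff (R := k) (σ := Fin 2)) := by
      rw [Ideal.span_le, Set.singleton_subset_iff]
      change MvPolynomial.constantCoeff _ = 0
      rw [map_mul, MvPolynomial.constantCoeff_X, zero_mul]
    exact hle ha)

lemma σ_ρ : σ A t ≫ CommRingCat.ofHom (ρ A t ht) = ι A t ht ≫ CommRingCat.ofHom (node0 k) := by
  apply hom_ext
  · rw [σ, inl_desc_assoc, ← Category.assoc, inl_ι]
    apply S_hom_ext
    · intro r
      change ρ A t ht (algebraMap k _ (MvPolynomial.constantCoeff (MvPolynomial.C r))) =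
        node0 k (mk0 k (MvPolynomial.C r))
      rw [MvPolynomial.constantCoeff_C]
      change A.res (algebraMap k A r) = MvPolynomial.constantCoeff (MvPolynomial.C r)
      rw [MvPolynomial.constantCoeff_C, A.res.commutes]
      rfl
    · change ρ A t ht (algebraMap k _ (MvPolynomial.constantCoeff (MvPolynomial.X 0))) =
        node0 k (mk0 k (MvPolynomial.X 0))
      rw [MvPolynomial.constantCoeff_X, map_zero, map_zero]
      change 0 = MvPolynomial.constantCoeff (MvPolynomial.X 0)
      rw [MvPolynomial.constantCoeff_X]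
    · change ρ A t ht (algebraMap k _ (MvPolynomial.constantCoeff (MvPolynomial.X 1))) =
        node0 k (mk0 k (MvPolynomial.X 1))
      rw [MvPolynomial.constantCoeff_X, map_zero, map_zero]
      change 0 = MvPolynomial.constantCoeff (MvPolynomial.X 1)
      rw [MvPolynomial.constantCoeff_X]
  · rw [σ, inr_desc_assoc, ← Category.assoc, inr_ι]
    ext a
    change ρ A t ht (Ideal.Quotient.mk _ a) = node0 k (algebraMap k (R₀ k) (A.res a))
    change A.res a = MvPolynomial.constantCoeff (MvPolynomial.C (A.res a))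
    rw [MvPolynomial.constantCoeff_C]

theorem mem_of_iso (e : (fam A t ht).Iso (fam A t' ht')) :
    t' ∈ Ideal.span {t} ⊔ IsLocalRing.maximalIdeal A ^ 2 := by
  let eh : Spec (E k t) ⟶ Spec (E k t') := e.iso.hom
  let e' : E k t' ⟶ E k t := Spec.preimage eh
  have he' : Spec.map e' = eh := Spec.map_preimage eh
  have hf : inr k t' ≫ e' = inr k t := by
    apply Spec.map_injective
    rw [Spec.map_comp, he']
    exact e.hom_f
  have hi : e' ≫ ι A t ht = ι A t' ht' := by
    apply Spec.map_injective
    rw [Spec.map_comp, he']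
    exact e.i_hom
  -- the images of x and y
  let m := IsLocalRing.maximalIdeal A
  let mkQ : A →+* A ⧸ Ideal.span {t} := Ideal.Quotient.mk (Ideal.span {t})
  let ψ : S k →+* A ⧸ Ideal.span {t} := (σ A t).hom.comp (e'.hom.comp (inl k t').hom)
  have hρ : ∀ z : S k, ρ A t ht (ψ z) = MvPolynomial.constantCoeff z := by
    intro z
    have h1 : ρ A t ht ((σ A t).hom (e'.hom ((inl k t').hom z))) =
        node0 k ((ι A t ht).hom (e'.hom ((inl k t').hom z))) :=
      ConcreteCategory.congr_hom (σ_ρ A t ht) (e'.hom ((inl k t').hom z))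
    have h2 : (ι A t ht).hom (e'.hom ((inl k t').hom z)) = (ι A t' ht').hom ((inl k t').hom z) :=
      ConcreteCategory.congr_hom hi ((inl k t').hom z)
    have h3 : (ι A t' ht').hom ((inl k t').hom z) = mk0 k z :=
      ConcreteCategory.congr_hom (inl_ι A t' ht') z
    change ρ A t ht ((σ A t).hom (e'.hom ((inl k t').hom z))) = _
    rw [h1, h2, h3]
    rfl
  have hmem : ∀ z : S k, MvPolynomial.constantCoeff z = 0 → ψ z ∈ m.map mkQ := by
    intro z hz
    obtain ⟨a, ha⟩ := Ideal.Quotient.mk_surjective (ψ z)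
    have h1 : A.res a = 0 := by
      have := hρ z
      rw [← ha, hz] at this
      exact this
    rw [← ha]
    exact Ideal.mem_map_of_mem _ ((mem_maximalIdeal_iff A a).mpr h1)
  have hxy : ψ (MvPolynomial.X 0 * MvPolynomial.X 1) = mkQ t' := by
    change (σ A t).hom (e'.hom ((inl k t').hom (MvPolynomial.X 0 * MvPolynomial.X 1))) = _
    rw [inl_xy]
    have h1 : e'.hom ((inr k t').hom t') = (inr k t).hom t' := ConcreteCategory.congr_hom hf t'
    rw [h1]
    exact ConcreteCategory.congr_hom (inr_desc k t (σS A t) _ _) t'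
  have h2 : mkQ t' ∈ (m ^ 2).map mkQ := by
    rw [← hxy, map_mul, pow_two, Ideal.map_mul]
    exact Ideal.mul_mem_mul (hmem _ (MvPolynomial.constantCoeff_X (R := k) (0 : Fin 2)))
      (hmem _ (MvPolynomial.constantCoeff_X (R := k) (1 : Fin 2)))
  rw [Ideal.mem_map_iff_of_surjective mkQ Ideal.Quotient.mk_surjective] at h2
  obtain ⟨z, hz, hzt⟩ := h2
  have h3 : t' - z ∈ Ideal.span {t} := by
    rw [← Ideal.Quotient.eq]
    exact hzt.symm
  have : t' = (t' - z) + z := by ring
  rw [this]
  exact Submodule.add_mem_sup h3 hz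

end Groth.Agent.H61.Node
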