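import Mathlib
import Groth.Prelude.Def_ArtFun

set_option autoImplicit false
set_option linter.style.haveILetI false
set_option linter.unusedSectionVars false

/-! The Artinian ring `k[ε,δ]/(ε²,δ²)` as an object of `Art k k`. -/

open CategoryTheory

namespace Groth.Agent.H61.Node

universe u

open ArtFun ArtFun.Art

/-- A trivial square-zero extension of a local ring is local. -/
theorem isLocalRing_tsze_of_isLocalRing (R M : Type u) [CommRing R] [IsLocalRing R] [AddCommGroup M]
    [Module R M] [Module Rᵐᵒᵖ M] [IsCentralScalar R M] : IsLocalRing (TrivSqZeroExt R M) := by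
  haveI : Nontrivial (TrivSqZeroExt R M) :=
    ⟨⟨0, 1, fun h => zero_ne_one (α := R) (congrArg TrivSqZeroExt.fst h)⟩⟩
  refine IsLocalRing.of_isUnit_or_isUnit_one_sub_self fun a => ?_
  rcases IsLocalRing.isUnit_or_isUnit_one_sub_self a.fst with h | h
  · exact Or.inl (TrivSqZeroExt.isUnit_iff_isUnit_fst.mpr h)
  · refine Or.inr (TrivSqZeroExt.isUnit_iff_isUnit_fst.mpr ?_)
    rwa [TrivSqZeroExt.fst_sub, TrivSqZeroExt.fst_one]

variable (k : Type u) [Field k]

/-- `k[ε][δ]`. -/
abbrev A' : Type u := TrivSqZeroExt (DualNumber k) (DualNumber k)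

instance : IsLocalRing (A' k) := isLocalRing_tsze_of_isLocalRing _ _

instance : IsScalarTower k (A' k) (A' k) := ⟨fun a x y => Algebra.smul_mul_assoc a x y⟩

instance : IsArtinianRing (A' k) :=
  haveI : Module.Finite k (DualNumber k) := inferInstanceAs (Module.Finite k (k × k))
  haveI : Module.Finite k (A' k) := inferInstanceAs (Module.Finite k (DualNumber k × DualNumber k))
  IsArtinianRing.of_finite k _

/-- the augmentation. -/
noncomputable def resA : A' k →ₐ[k] k :=
  (TrivSqZeroExt.fstHom k k k).comp (TrivSqZeroExt.fstHom k (DualNumber k) (DualNumber k))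

lemma resA_apply (a : A' k) : resA k a = a.fst.fst := rfl

/-- the object. -/
noncomputable def nodeArt : Art k k :=
  Art.of (A' k) (resA k) (fun c => ⟨TrivSqZeroExt.inl (TrivSqZeroExt.inl c), rfl⟩)

/-- `ε`. -/
noncomputable def s' : nodeArt k := (TrivSqZeroExt.inl (DualNumber.eps) : A' k)

/-- `1 + δ`. -/
noncomputable def u' : nodeArt k := (1 + TrivSqZeroExt.inr 1 : A' k)

/-- `εδ`. -/
noncomputable def τ : nodeArt k := (TrivSqZeroExt.inr (DualNumber.eps) : A' k)

lemma res_s' : (nodeArt k).res (s' k) = 0 := by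
  change ((TrivSqZeroExt.inl (DualNumber.eps) : A' k)).fst.fst = 0
  simp

lemma res_u' : (nodeArt k).res (u' k) = 1 := by
  change ((1 + TrivSqZeroExt.inr 1 : A' k)).fst.fst = 1
  simp

lemma τ_ne_zero : τ k ≠ 0 := by
  intro h
  have h1 : ((TrivSqZeroExt.inr (DualNumber.eps) : A' k)).snd.snd = (0 : A' k).snd.snd :=
    congrArg (fun z : A' k => z.snd.snd) h
  simp at h1

lemma u'_mul_s' : u' k * s' k = s' k + τ k := by
  change (1 + TrivSqZeroExt.inr 1 : A' k) * (TrivSqZeroExt.inl (DualNumber.eps) : A' k) =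
    (TrivSqZeroExt.inl (DualNumber.eps) : A' k) + TrivSqZeroExt.inr (DualNumber.eps)
  rw [add_mul, one_mul, TrivSqZeroExt.inr_mul_inl]
  congr 2
  simp

lemma mul_τ (a : nodeArt k) (ha : (nodeArt k).res a = 0) : a * τ k = 0 := by
  have ha' : (a : A' k).fst.fst = 0 := ha
  change (show A' k from a) * (TrivSqZeroExt.inr (DualNumber.eps) : A' k) = 0
  apply TrivSqZeroExt.ext
  · simp
  · rw [TrivSqZeroExt.snd_mul]
    simp only [TrivSqZeroExt.snd_inr, TrivSqZeroExt.fst_inr, MulOpposite.op_zero, zero_smul,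
      add_zero, TrivSqZeroExt.snd_zero, smul_eq_mul]
    apply TrivSqZeroExt.ext
    · simp [ha']
    · simp [ha']

end Groth.Agent.H61.Node
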