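import Mathlib
import Groth.Prelude.Def_ArtFun4
import Groth.Agent.H61.Node.Obs
import Groth.Agent.H61.Node.Ring
import Groth.Agent.H61.ProrepConverse
import Groth.Agent.H63.ArtFinite
import Groth.Agent.H63.ArtBasic
import Groth.Agent.H63.ArtPaste

set_option autoImplicit false
set_option linter.style.haveILetI false
set_option linter.unusedSectionVars false

/-! The deformation functor of the node is not left exact. -/

open AlgebraicGeometry CategoryTheory CategoryTheory.Limits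

namespace Groth.Agent.H61.Node

universe u

open ArtFun ArtFun.Art Groth.Agent.H61.DefAlg Groth.Agent.H63

variable {k : Type u} [Field k]

lemma fam_cl_congr (A : Art k k) {t t' : A} (h : t = t') (ht : t ∈ IsLocalRing.maximalIdeal A)
    (ht' : t' ∈ IsLocalRing.maximalIdeal A) : (fam A t ht).cl = (fam A t' ht').cl := by
  subst h
  rfl

lemma map_fam_cl {A A₁ : Art k k} (g : A ⟶ A₁) (t : A) (ht : t ∈ IsLocalRing.maximalIdeal A) :
    (defFunctor (XN k) (xN k)).map g (fam A t ht).cl = (fam A₁ (g t) (map_mem g t ht)).cl := by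
  rw [defFunctor_map_cl]
  obtain ⟨e⟩ := bc_iso g t ht
  exact Quotient.sound ⟨e⟩

theorem not_isLeftExact : ¬ IsLeftExact (defFunctor (Λ := k) (XN k) (xN k)) := by
  intro hF
  -- the rings
  let N := nodeArt k
  have hτm : τ k ∈ IsLocalRing.maximalIdeal N := by
    rw [mem_maximalIdeal_iff]
    rfl
  have hs'm : s' k ∈ IsLocalRing.maximalIdeal N := (mem_maximalIdeal_iff N _).mpr (res_s' k)
  obtain ⟨A, f, hf, hker⟩ := exists_quot N (Ideal.span {τ k})
    (Ideal.span_le.mpr (Set.singleton_subset_iff.mpr hτm))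
  obtain ⟨B, p₁, p₂, hB⟩ := exists_isFibreProd_of_surjective f f hf
  have hfτ : f (τ k) = 0 := by
    have : τ k ∈ RingHom.ker f.toAlgHom := by
      rw [hker]
      exact Ideal.subset_span (Set.mem_singleton _)
    exact this
  obtain ⟨sB, hs1, hs2⟩ := hB.surj (s' k) (s' k) rfl
  obtain ⟨eB, he1, he2⟩ := hB.surj 0 (τ k) (by rw [hfτ]; exact map_zero f.toAlgHom)
  have hsBm : sB ∈ IsLocalRing.maximalIdeal B := by
    rw [mem_maximalIdeal_iff, ← res_app p₁, hs1]
    exact res_s' k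
  have heBm : eB ∈ IsLocalRing.maximalIdeal B := by
    rw [mem_maximalIdeal_iff, ← res_app p₁, he1]
    exact map_zero _
  have hseBm : sB + eB ∈ IsLocalRing.maximalIdeal B := Ideal.add_mem _ hsBm heBm
  -- the two deformations have the same images
  have hinj := (hF p₁ p₂ f f hB).1
  rw [cmp_injective_iff] at hinj
  have key : (fam B sB hsBm).cl = (fam B (sB + eB) hseBm).cl := by
    apply hinj
    · rw [map_fam_cl, map_fam_cl]
      apply fam_cl_congr
      rw [map_add]
      rw [he1, add_zero]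
    · rw [map_fam_cl, map_fam_cl]
      have h1 : (fam N (p₂ sB) (map_mem p₂ sB hsBm)).cl = (fam N (s' k) hs'm).cl :=
        fam_cl_congr N hs2 _ _
      have h2 : (fam N (p₂ (sB + eB)) (map_mem p₂ (sB + eB) hseBm)).cl =
          (fam N (u' k * s' k) (mul_mem N (s' k) (u' k) hs'm)).cl := by
        apply fam_cl_congr
        rw [map_add]
        rw [hs2, he2, u'_mul_s']
      rw [h1, h2]
      obtain ⟨e⟩ := twist_iso N (s' k) (u' k) hs'm (res_u' k)
      exact Quotient.sound ⟨e⟩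
  obtain ⟨e⟩ := Quotient.exact key
  have hmem := mem_of_iso B sB (sB + eB) hsBm hseBm e
  -- so `eB ∈ (sB) + m²`
  have hmem' : eB ∈ Ideal.span {sB} ⊔ IsLocalRing.maximalIdeal B ^ 2 := by
    have h1 : sB ∈ Ideal.span {sB} ⊔ IsLocalRing.maximalIdeal B ^ 2 :=
      Ideal.mem_sup_left (Ideal.subset_span (Set.mem_singleton _))
    have h2 := Ideal.sub_mem _ hmem h1
    rwa [add_sub_cancel_left] at h2
  -- the difference of the projections lies in `(τ)`
  have hdiff : ∀ z : B, ∃ d : N, p₁ z - p₂ z = d * τ k := by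
    intro z
    have h1 : p₁ z - p₂ z ∈ RingHom.ker f.toAlgHom := by
      rw [RingHom.mem_ker, map_sub, sub_eq_zero]
      exact hB.w_apply z
    rw [hker, Ideal.mem_span_singleton'] at h1
    obtain ⟨d, hd⟩ := h1
    exact ⟨d, hd.symm⟩
  have hres : ∀ z : B, z ∈ IsLocalRing.maximalIdeal B → ∀ p : B ⟶ N, N.res (p z) = 0 := by
    intro z hz p
    rw [res_app]
    exact (mem_maximalIdeal_iff B z).mp hz
  -- `p₁ = p₂` on `m²`
  have hsq : ∀ z ∈ IsLocalRing.maximalIdeal B ^ 2, p₁ z = p₂ z := by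
    intro z hz
    rw [pow_two] at hz
    refine Submodule.mul_induction_on hz ?_ ?_
    · intro x hx y hy
      obtain ⟨d₁, hd₁⟩ := hdiff x
      obtain ⟨d₂, hd₂⟩ := hdiff y
      have e1 : p₁ (x * y) = p₁ x * p₁ y := map_mul p₁.toAlgHom x y
      have e2 : p₂ (x * y) = p₂ x * p₂ y := map_mul p₂.toAlgHom x y
      have e3 : p₁ x * (d₂ * τ k) = 0 := by
        rw [← mul_assoc, mul_comm (p₁ x) d₂, mul_assoc, mul_τ k _ (hres x hx p₁), mul_zero]
      have e4 : (d₁ * τ k) * p₂ y = 0 := by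
        rw [mul_comm, ← mul_assoc, mul_comm (p₂ y) d₁, mul_assoc, mul_τ k _ (hres y hy p₂), mul_zero]
      rw [e1, e2, ← sub_eq_zero]
      have : p₁ x * p₁ y - p₂ x * p₂ y = p₁ x * (p₁ y - p₂ y) + (p₁ x - p₂ x) * p₂ y := by ring
      rw [this, hd₁, hd₂, e3, e4, add_zero]
    · intro x y hx hy
      have e1 : p₁ (x + y) = p₁ x + p₁ y := map_add p₁.toAlgHom x y
      have e2 : p₂ (x + y) = p₂ x + p₂ y := map_add p₂.toAlgHom x y
      rw [e1, e2, hx, hy]
  -- `p₁ = p₂` on `(sB)`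
  have hspan : ∀ z ∈ Ideal.span {sB}, p₁ z = p₂ z := by
    intro z hz
    rw [Ideal.mem_span_singleton'] at hz
    obtain ⟨a, rfl⟩ := hz
    obtain ⟨d, hd⟩ := hdiff a
    have e1 : p₁ (a * sB) = p₁ a * p₁ sB := map_mul p₁.toAlgHom a sB
    have e2 : p₂ (a * sB) = p₂ a * p₂ sB := map_mul p₂.toAlgHom a sB
    rw [e1, e2, hs1, hs2, ← sub_eq_zero, ← sub_mul, hd, mul_assoc, mul_comm (τ k),
      mul_τ k _ (res_s' k), mul_zero]
  obtain ⟨a, ha, b, hb, hab⟩ := Submodule.mem_sup.mp hmem'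
  have h1 : p₁ eB = p₂ eB := by
    rw [← hab]
    have e1 : p₁ (a + b) = p₁ a + p₁ b := map_add p₁.toAlgHom a b
    have e2 : p₂ (a + b) = p₂ a + p₂ b := map_add p₂.toAlgHom a b
    rw [e1, e2, hspan a ha, hsq b hb]
  rw [he1, he2] at h1
  exact τ_ne_zero k h1.symm

theorem not_isProrepresentable : ¬ IsProrepresentable (defFunctor (Λ := k) (XN k) (xN k)) := by
  rintro ⟨P⟩
  exact not_isLeftExact (Groth.Agent.H61.isLeftExact_of_isUniversal P.family P.universal)

end Groth.Agent.H61.Node
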